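import Cfsg.Agent.Lib.PrimTwo.Main
import Mathlib

/-!
Two elements of prime order at least seven with the same two eigenvalues commute.
-/

set_option autoImplicit false
set_option linter.style.haveILetI false

open scoped Classical

namespace CfsgLib.TwoEigen

open CfsgLib

universe u

variable {K : Type u} [Group K] [Finite K] {m : ℕ} (ρ : Representation ℂ K (Fin m → ℂ))

/-- In a representation generated by two such elements their images commute. -/
theorem commute_irreducible [ρ.IsIrreducible] {p : ℕ} (hp : p.Prime) (h7 : 7 ≤ p) {x y : K}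
    (hgen : Subgroup.closure ({x, y} : Set K) = ⊤) (hxp : x ^ p = 1) (hyp : y ^ p = 1) {ω : ℂ}
    (hω : ω ≠ 1) (hX : (ρ x - 1) * (ρ x - ω • 1) = 0) (hY : (ρ y - 1) * (ρ y - ω • 1) = 0) :
    ρ x * ρ y = ρ y * ρ x := by
  by_contra hne
  have hmon : ∀ (S : Submonoid K), x ∈ S → y ∈ S → ∀ g, g ∈ S := by
    intro S hx hy g
    have hg : g ∈ Submonoid.closure ({x, y} : Set K) := by
      rw [← Subgroup.closure_toSubmonoid_of_finite, hgen]; trivial
    exact Submonoid.closure_le.2 (by rintro z (rfl | rfl) <;> assumption) hg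
  have h0 : ω - 1 ≠ 0 := sub_ne_zero.2 hω
  have hidem : ∀ T : Module.End ℂ (Fin m → ℂ), (T - 1) * (T - ω • 1) = 0 →
      ((ω - 1)⁻¹ • (T - 1)) * ((ω - 1)⁻¹ • (T - 1)) = (ω - 1)⁻¹ • (T - 1) := by
    intro T hT
    have h1 : (T - 1) * (T - 1) = (ω - 1) • (T - 1) := by
      have h2 : T - ω • 1 = (T - 1) - (ω - 1) • (1 : Module.End ℂ (Fin m → ℂ)) := by
        refine LinearMap.ext fun u => ?_
        simp only [LinearMap.sub_apply, LinearMap.smul_apply, Module.End.one_apply, sub_smul,
          one_smul]
        abel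
      rw [h2, mul_sub, mul_smul_comm, mul_one, sub_eq_zero] at hT
      exact hT
    rw [smul_mul_assoc, mul_smul_comm, h1, smul_smul ((ω - 1)⁻¹) (ω - 1), inv_mul_cancel₀ h0,
      one_smul]
  set e : Module.End ℂ (Fin m → ℂ) := (ω - 1)⁻¹ • (ρ x - 1) with he
  set f : Module.End ℂ (Fin m → ℂ) := (ω - 1)⁻¹ • (ρ y - 1) with hf
  have hee : e * e = e := hidem _ hX
  have hff : f * f = f := hidem _ hY
  have hXe : ρ x = 1 + (ω - 1) • e := by
    rw [he, smul_smul, mul_inv_cancel₀ h0, one_smul]; abel
  have hYf : ρ y = 1 + (ω - 1) • f := by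
    rw [hf, smul_smul, mul_inv_cancel₀ h0, one_smul]; abel
  clear_value e f
  set c : Module.End ℂ (Fin m → ℂ) := (e - f) * (e - f) with hc
  have hce : c = e - e * f - f * e + f := by
    rw [hc, sub_mul, mul_sub, mul_sub, hee, hff]; abel
  have hce1 : c * e = e * c := by
    rw [hce]
    simp only [sub_mul, add_mul, mul_sub, mul_add, mul_assoc, hee]
    simp only [← mul_assoc, hee]
    abel
  have hcf1 : c * f = f * c := by
    rw [hce]
    simp only [sub_mul, add_mul, mul_sub, mul_add, mul_assoc, hff]
    simp only [← mul_assoc, hff]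
    abel
  obtain ⟨lam, hlam⟩ := Char.exists_scalar_of_commute ρ c (hmon
    { carrier := {g | c * ρ g = ρ g * c}
      one_mem' := by simp
      mul_mem' := fun {a b} (ha : c * ρ a = ρ a * c) (hb : c * ρ b = ρ b * c) => by
        show c * ρ (a * b) = ρ (a * b) * c
        rw [map_mul, ← mul_assoc, ha, mul_assoc, hb, mul_assoc] }
    (show c * ρ x = ρ x * c by
      rw [hXe, mul_add, add_mul, mul_one, one_mul, mul_smul_comm, smul_mul_assoc, hce1])
    (show c * ρ y = ρ y * c by
      rw [hYf, mul_add, add_mul, mul_one, one_mul, mul_smul_comm, smul_mul_assoc, hcf1]))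
  obtain ⟨w, hw⟩ : ∃ w, e w ≠ 0 := by
    by_contra hall
    push Not at hall
    have : e = 0 := LinearMap.ext hall
    exact hne (by rw [hXe, this, smul_zero, add_zero, one_mul, mul_one])
  set v := e w with hv
  have hev : e v = v := by rw [hv, ← Module.End.mul_apply, hee]
  have hfv : f (f v) = f v := by rw [← Module.End.mul_apply, hff]
  have hefv : e (f v) = (1 - lam) • v := by
    have h1 : c v = lam • v := by rw [hlam]; rfl
    rw [hce] at h1
    simp only [LinearMap.sub_apply, LinearMap.add_apply, Module.End.mul_apply, hev] at h1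
    rw [sub_smul, one_smul, ← h1]
    abel
  set W := Submodule.span ℂ ({v, f v} : Set (Fin m → ℂ)) with hW
  have hvW : v ∈ W := Submodule.subset_span (by simp)
  have hfvW : f v ∈ W := Submodule.subset_span (by simp)
  have hinv : ∀ T : Module.End ℂ (Fin m → ℂ), T v ∈ W → T (f v) ∈ W → ∀ u ∈ W, T u ∈ W := by
    intro T h1 h2 u hu
    refine Submodule.span_induction ?_ (by simp) (fun a b _ _ ha hb => ?_) (fun a b _ hb => ?_) hu
    · rintro z (rfl | rfl) <;> assumption
    · rw [map_add]; exact W.add_mem ha hb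
    · rw [_root_.map_smul]; exact W.smul_mem a hb
  have hWe : ∀ u ∈ W, ρ x u ∈ W := by
    refine hinv _ ?_ ?_ <;>
      rw [hXe, LinearMap.add_apply, LinearMap.smul_apply, Module.End.one_apply]
    · rw [hev]; exact W.add_mem hvW (W.smul_mem _ hvW)
    · rw [hefv]; exact W.add_mem hfvW (W.smul_mem _ (W.smul_mem _ hvW))
  have hWf : ∀ u ∈ W, ρ y u ∈ W := by
    refine hinv _ ?_ ?_ <;>
      rw [hYf, LinearMap.add_apply, LinearMap.smul_apply, Module.End.one_apply]
    · exact W.add_mem hvW (W.smul_mem _ hfvW)
    · rw [hfv]; exact W.add_mem hfvW (W.smul_mem _ hfvW)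
  rcases CharKernel.eq_bot_or_eq_top ρ W (hmon
    { carrier := {g | ∀ u ∈ W, ρ g u ∈ W}
      one_mem' := fun u hu => by simpa using hu
      mul_mem' := fun {a b} (ha : ∀ u ∈ W, ρ a u ∈ W) (hb : ∀ u ∈ W, ρ b u ∈ W) u hu => by
        rw [map_mul, Module.End.mul_apply]; exact ha _ (hb u hu) } hWe hWf) with h | h
  · exact hw ((Submodule.mem_bot ℂ).1 (h ▸ hvW))
  have hm2 : m ≤ 2 := by
    have h1 : Module.finrank ℂ W ≤ 2 := by
      rw [hW, Submodule.span_insert]
      refine le_trans (Submodule.finrank_add_le_finrank_add_finrank _ _) ?_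
      have h2 : ∀ u : Fin m → ℂ,
          Module.finrank ℂ (Submodule.span ℂ ({u} : Set (Fin m → ℂ))) ≤ 1 := fun u =>
        (finrank_span_le_card _).trans_eq (by simp)
      exact (Nat.add_le_add (h2 v) (h2 (f v))).trans (by norm_num)
    rwa [h, finrank_top, Module.finrank_fin_fun] at h1
  have hm0 : 0 < m := by
    have := Char.finrank_pos_of_irreducible ρ
    rwa [Module.finrank_fin_fun] at this
  rcases (show m = 1 ∨ m = 2 by omega) with rfl | rfl
  · refine hne (LinearMap.toMatrix'.injective ?_)
    rw [LinearMap.toMatrix'_mul, LinearMap.toMatrix'_mul]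
    ext i j
    fin_cases i; fin_cases j
    simp [Matrix.mul_apply, mul_comm]
  · set H := (PrimTwo.toPG ρ).range
    haveI : Finite H :=
      Finite.of_surjective _ (PrimTwo.toPG ρ).rangeRestrict_surjective
    rcases PrimTwo.pole_trichotomy H with ⟨z, hz⟩ | ⟨z, hz⟩ | hcard
    · exact PrimTwo.false_of_fixed ρ z fun g => hz ⟨PrimTwo.toPG ρ g, g, rfl⟩
    · haveI := PSL2Sub.finite_orbit H z
      have hS : (MulAction.stabilizer H z).index = 2 := by
        rw [Subgroup.index_eq_card, ← Nat.card_congr (MulAction.orbitEquivQuotientStabilizer H z)]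
        exact hz
      have hodd : ∀ g : K, g ^ p = 1 → g ∈ (MulAction.stabilizer H z).comap
          (PrimTwo.toPG ρ).rangeRestrict := by
        intro g hg
        set s := (PrimTwo.toPG ρ).rangeRestrict g
        have h1 : s ^ p = 1 := by rw [← map_pow, hg, map_one]
        have h2 : s ^ 2 ∈ MulAction.stabilizer H z := by
          haveI := Subgroup.normal_of_index_eq_two hS
          have := Subgroup.pow_index_mem (MulAction.stabilizer H z) s
          rwa [hS] at this
        obtain ⟨k, hk⟩ : ∃ k, p = 2 * k + 1 := (hp.odd_of_ne_two (by omega))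
        have h3 : s = ((s ^ 2) ^ k)⁻¹ := by
          rw [eq_inv_iff_mul_eq_one, ← pow_mul, ← pow_succ', ← hk, h1]
        show s ∈ MulAction.stabilizer H z
        rw [h3]
        exact inv_mem (pow_mem h2 k)
      have htop : (MulAction.stabilizer H z).comap (PrimTwo.toPG ρ).rangeRestrict = ⊤ := by
        rw [eq_top_iff, ← hgen, Subgroup.closure_le]
        rintro g (rfl | rfl)
        · exact hodd _ hxp
        · exact hodd _ hyp
      have h4 := Subgroup.index_comap_of_surjective (MulAction.stabilizer H z)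
        (PrimTwo.toPG ρ).rangeRestrict_surjective
      rw [htop, Subgroup.index_top, hS] at h4
      omega
    · have hx1 : PrimTwo.toPG ρ x = 1 := by
        have h1 : orderOf (⟨PrimTwo.toPG ρ x, x, rfl⟩ : H) ∣ p :=
          orderOf_dvd_of_pow_eq_one (Subtype.ext (by
            rw [Subgroup.coe_pow, ← map_pow, hxp, map_one]; rfl))
        have h2 := orderOf_dvd_natCard (⟨PrimTwo.toPG ρ x, x, rfl⟩ : H)
        rcases (Nat.dvd_prime hp).1 h1 with h | h
        · exact congrArg Subtype.val (orderOf_eq_one_iff.1 h)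
        · rw [h] at h2
          exfalso
          rcases hcard with h3 | h3 | h3 <;> rw [h3] at h2
          · exact absurd (Nat.le_of_dvd (by norm_num) ((Nat.Coprime.dvd_of_dvd_mul_left
              (((Nat.coprime_primes hp Nat.prime_two).2 (by omega)).pow_right 2)
              (show p ∣ 2 ^ 2 * 3 from h2)))) (by omega)
          · exact absurd (Nat.le_of_dvd (by norm_num) ((Nat.Coprime.dvd_of_dvd_mul_left
              (((Nat.coprime_primes hp Nat.prime_two).2 (by omega)).pow_right 3)
              (show p ∣ 2 ^ 3 * 3 from h2)))) (by omega)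
          · have h4 : p ∣ 3 * 5 := Nat.Coprime.dvd_of_dvd_mul_left
              (((Nat.coprime_primes hp Nat.prime_two).2 (by omega)).pow_right 2)
              (show p ∣ 2 ^ 2 * (3 * 5) from h2)
            rcases hp.dvd_mul.1 h4 with h5 | h5 <;>
              exact absurd (Nat.le_of_dvd (by norm_num) h5) (by omega)
      rw [PrimTwo.toPG, MonoidHom.comp_apply, Matrix.ProjGenLinGroup.mk_eq_one,
        Subgroup.mem_center_iff] at hx1
      refine hne (LinearMap.ext fun u => ?_)
      rw [Module.End.mul_apply, Module.End.mul_apply, ← PrimTwo.toGL_mulVec ρ x,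
        ← PrimTwo.toGL_mulVec ρ y, ← PrimTwo.toGL_mulVec ρ y, ← PrimTwo.toGL_mulVec ρ x,
        Matrix.mulVec_mulVec, Matrix.mulVec_mulVec, ← Units.val_mul, ← Units.val_mul,
        hx1 (PrimTwo.toGL ρ y)]

/-- Two elements of prime order at least seven with the same two eigenvalues commute. -/
theorem commute_of_two_eigen {G : Type u} [Group G] [Finite G] {n : ℕ}
    (σ : Representation ℂ G (Fin n → ℂ)) (hinj : Function.Injective σ) {p : ℕ} (hp : p.Prime)
    (h7 : 7 ≤ p) {x y : G} (hxp : x ^ p = 1) (hyp : y ^ p = 1) {ω : ℂ} (hω : ω ≠ 1)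
    (hX : (σ x - 1) * (σ x - ω • 1) = 0) (hY : (σ y - 1) * (σ y - ω • 1) = 0) :
    x * y = y * x := by
  set L := Subgroup.closure ({x, y} : Set G) with hL
  let x' : L := ⟨x, Subgroup.subset_closure (by simp)⟩
  let y' : L := ⟨y, Subgroup.subset_closure (by simp)⟩
  have hgen : Subgroup.closure ({x', y'} : Set L) = ⊤ := by
    apply Subgroup.map_injective L.subtype_injective
    rw [MonoidHom.map_closure, Set.image_pair, ← MonoidHom.range_eq_map, Subgroup.range_subtype]
    rfl
  let σL : Representation ℂ L (Fin n → ℂ) := σ.comp L.subtype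
  by_contra hne
  have hc : σL (x' * y' * (y' * x')⁻¹) ≠ 1 := by
    intro h
    refine hne (mul_inv_eq_one.1 (hinj ?_))
    rw [map_one]
    exact h
  obtain ⟨U, hU, hUc⟩ := CharKernel.exists_irreducible_sub_ne_one σL _ hc
  have hquad : ∀ g : L, (σL g - 1) * (σL g - ω • 1) = 0 →
      (U.toRepresentation g - 1) * (U.toRepresentation g - ω • 1) = 0 := by
    intro g hg
    refine LinearMap.ext fun u => Subtype.ext ?_
    exact LinearMap.congr_fun hg (u : Fin n → ℂ)
  let e := (Module.finBasis ℂ U.toSubmodule).equivFun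
  haveI := CharKernel.coordRep_irreducible U.toRepresentation
  have hquad' : ∀ g : L, (σL g - 1) * (σL g - ω • 1) = 0 →
      (CharKernel.coordRep U.toRepresentation g - 1) *
        (CharKernel.coordRep U.toRepresentation g - ω • 1) = 0 := by
    intro g hg
    refine LinearMap.ext fun u => ?_
    have h := congrArg e (LinearMap.congr_fun (hquad g hg) (e.symm u))
    simp only [Module.End.mul_apply, LinearMap.sub_apply, LinearMap.smul_apply,
      Module.End.one_apply, LinearMap.zero_apply, map_sub, _root_.map_smul, map_zero,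
      LinearEquiv.apply_symm_apply] at h
    simp only [Module.End.mul_apply, LinearMap.sub_apply, LinearMap.smul_apply,
      Module.End.one_apply, LinearMap.zero_apply, map_sub, _root_.map_smul]
    have hco : ∀ w, CharKernel.coordRep U.toRepresentation g w =
        e (U.toRepresentation g (e.symm w)) := fun w => rfl
    rw [hco (CharKernel.coordRep U.toRepresentation g u), hco u, LinearEquiv.symm_apply_apply]
    exact h
  have h := commute_irreducible (CharKernel.coordRep U.toRepresentation) hp h7 hgen
    (Subtype.ext hxp) (Subtype.ext hyp) hω (hquad' x' hX) (hquad' y' hY)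
  refine hUc ((CharKernel.coordRep_apply_eq_one_iff U.toRepresentation _).1 ?_)
  rw [map_mul, map_mul, h, ← map_mul, ← map_mul, mul_inv_cancel, map_one]

end CfsgLib.TwoEigen
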