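import Cfsg.Agent.Lib.TwoEigen.Commute
import Cfsg.Agent.Lib.Transfer.PGroup
import Cfsg.Agent.Lib.Solvable.Core
import Cfsg.Agent.Lib.CharTools.Basic
import Mathlib

/-!
Irreducible linear groups of degree less than twice a prime.
-/

set_option autoImplicit false
set_option linter.style.haveILetI false

open scoped Classical ComplexConjugate commutatorElement

namespace CfsgLib.TwoEigen

open Cfsg CfsgLib CfsgLib.CharTwist

universe u

/-- A group with a faithful character all of whose constituents are linear is abelian. -/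
theorem comm_of_linear_constituents {A : Type u} [Group A] [Finite A] {f : A → ℂ}
    {m : Cfsg.IrrCharacter A → ℕ} (hm : f = ∑ ψ, (m ψ : ℂ) • (ψ : A → ℂ))
    (hfaith : ∀ a : A, f a = f 1 → a = 1)
    (hlin : ∀ ψ, m ψ ≠ 0 → (ψ : A → ℂ) 1 = 1) (a b : A) : a * b = b * a := by
  refine mul_inv_eq_one.1 (hfaith _ ?_)
  rw [hm]
  simp only [Finset.sum_apply, Pi.smul_apply, smul_eq_mul]
  refine Finset.sum_congr rfl fun ψ _ => ?_
  by_cases h0 : m ψ = 0
  · simp [h0]
  obtain ⟨l, hl⟩ := Char.IsCharacter.exists_linear (Char.IsIrrCharacter.isCharacter ψ.2) (hlin ψ h0)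
  rw [hl, hl, map_mul, map_inv, map_mul, map_mul, mul_comm (l a) (l b), mul_inv_cancel, map_one]

/-- Roots of unity whose power sums are those of two values take these two values. -/
theorem two_values {ι : Type*} [Fintype ι] {N : ℕ} (hN : 0 < N) {μ : ι → ℂ}
    (hμ : ∀ i, μ i ^ N = 1) {ω : ℂ} (hω : ω ^ N = 1) (hω1 : ω ≠ 1) {a b : ℕ}
    (hpow : ∀ j : ℕ, ∑ i, μ i ^ j = (a : ℂ) * ω ^ j + b) :
    (∀ i, μ i = 1 ∨ μ i = ω) ∧ (Finset.univ.filter fun i => μ i = ω).card = a := by
  have hP : ∀ P : Polynomial ℂ, ∑ i, P.eval (μ i) = (a : ℂ) * P.eval ω + b * P.eval 1 := by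
    intro P
    simp only [Polynomial.eval_eq_sum_range]
    rw [Finset.sum_comm, Finset.mul_sum, Finset.mul_sum, ← Finset.sum_add_distrib]
    refine Finset.sum_congr rfl fun j _ => ?_
    rw [← Finset.mul_sum, hpow, one_pow]
    ring
  have hconj : ∀ z : ℂ, z ^ N = 1 → z ^ (N - 1) = conj z := by
    intro z hz
    rw [← Complex.inv_eq_conj (Complex.norm_eq_one_of_pow_eq_one hz hN.ne')]
    refine eq_inv_of_mul_eq_one_left ?_
    rw [← pow_succ, Nat.sub_add_cancel hN, hz]
  have h1 := hP ((Polynomial.X - Polynomial.C 1) * (Polynomial.X - Polynomial.C ω) *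
    ((Polynomial.X ^ (N - 1) - Polynomial.C 1) * (Polynomial.X ^ (N - 1) - Polynomial.C (conj ω))))
  have h2 : ∀ z : ℂ, z ^ N = 1 → ((Polynomial.X - Polynomial.C 1) * (Polynomial.X - Polynomial.C ω) *
      ((Polynomial.X ^ (N - 1) - Polynomial.C 1) *
        (Polynomial.X ^ (N - 1) - Polynomial.C (conj ω)))).eval z =
      ((Complex.normSq ((z - 1) * (z - ω)) : ℝ) : ℂ) := by
    intro z hz
    rw [Complex.normSq_eq_conj_mul_self, map_mul, map_sub, map_sub, map_one]
    simp only [Polynomial.eval_mul, Polynomial.eval_sub, Polynomial.eval_X, Polynomial.eval_C,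
      Polynomial.eval_pow, Polynomial.eval_one, hconj z hz, map_one]
    ring
  rw [h2 ω hω, h2 1 (one_pow N), Finset.sum_congr rfl fun i _ => h2 (μ i) (hμ i)] at h1
  simp only [sub_self, mul_zero, zero_mul, map_zero, Complex.ofReal_zero, add_zero,
    ← Complex.ofReal_sum, Complex.ofReal_eq_zero] at h1
  have hval : ∀ i, μ i = 1 ∨ μ i = ω := by
    intro i
    have h3 := (Finset.sum_eq_zero_iff_of_nonneg fun i _ => Complex.normSq_nonneg _).1 h1 i
      (Finset.mem_univ i)
    rw [Complex.normSq_eq_zero, mul_eq_zero, sub_eq_zero, sub_eq_zero] at h3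
    exact h3
  refine ⟨hval, ?_⟩
  have h4 := hP (Polynomial.X - Polynomial.C 1)
  simp only [Polynomial.eval_sub, Polynomial.eval_X, Polynomial.eval_C, sub_self, mul_zero,
    add_zero] at h4
  have h5 : ∑ i, (μ i - 1) =
      ((Finset.univ.filter fun i => μ i = ω).card : ℂ) * (ω - 1) := by
    rw [← nsmul_eq_mul, ← Finset.sum_const, Finset.sum_filter]
    refine Finset.sum_congr rfl fun i _ => ?_
    by_cases h : μ i = ω
    · rw [if_pos h, h]
    · rw [if_neg h, (hval i).resolve_right h, sub_self]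
  rw [h5] at h4
  exact_mod_cast mul_right_cancel₀ (sub_ne_zero.2 hω1) h4

variable {G : Type u} [Group G] [Finite G]

/-- A non-abelian Sylow subgroup gives an element with two eigenvalues. -/
theorem exists_two_eigen_element {p : ℕ} [hp : Fact p.Prime] {χ : G → ℂ}
    (hχ : Cfsg.IsCharacter G χ) (hfaith : ∀ g : G, χ g = χ 1 → g = 1) {n : ℕ} (hn : χ 1 = n)
    (hn2 : n < 2 * p) (P : Subgroup G) (hP : IsPGroup p P)
    (hna : ∃ x ∈ P, ∃ y ∈ P, x * y ≠ y * x) :
    ∃ (z : G) (ω : ℂ), z ^ p = 1 ∧ z ≠ 1 ∧ ω ≠ 1 ∧ ω ^ p = 1 ∧ p ≤ n ∧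
      ∀ j : ℕ, χ (z ^ j) = (p : ℂ) * ω ^ j + (n - p : ℕ) := by
  letI : Fintype P := Fintype.ofFinite _
  obtain ⟨m, hm⟩ := Char.IsCharacter.exists_nat_combination (Clifford.isCharacter_res hχ P)
  have hdeg : ∀ ψ : Cfsg.IrrCharacter P, (ψ : P → ℂ) 1 = (Char.degree (ψ : P → ℂ) : ℂ) := fun ψ =>
    (Char.IsCharacter.degree_cast (Char.IsIrrCharacter.isCharacter ψ.2)).symm
  have hsum : ∑ ψ : Cfsg.IrrCharacter P, m ψ * Char.degree (ψ : P → ℂ) = n := by
    have h1 := congrFun hm 1
    simp only [OneMemClass.coe_one, hn, Finset.sum_apply, Pi.smul_apply, smul_eq_mul, hdeg] at h1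
    exact_mod_cast h1.symm
  obtain ⟨θ, hθ0, hθ1⟩ : ∃ θ, m θ ≠ 0 ∧ (θ : P → ℂ) 1 ≠ 1 := by
    by_contra h
    push Not at h
    obtain ⟨x, hx, y, hy, hxy⟩ := hna
    exact hxy (congrArg Subtype.val (comm_of_linear_constituents hm
      (fun a ha => Subtype.ext (hfaith _ ha)) h ⟨x, hx⟩ ⟨y, hy⟩))
  obtain ⟨k, hk⟩ := IsPGroup.iff_card.1 hP
  have hdvd : ∀ ψ : Cfsg.IrrCharacter P, Char.degree (ψ : P → ℂ) = 1 ∨
      p ≤ Char.degree (ψ : P → ℂ) := by
    intro ψ
    obtain ⟨j, -, hj⟩ := (Nat.dvd_prime_pow hp.out).1 (hk ▸ CharTools.degree_dvd_card ψ)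
    change Char.degree (ψ : P → ℂ) = _ at hj
    rcases j with _ | j
    · exact Or.inl (by simpa using hj)
    · exact Or.inr (hj ▸ Nat.le_self_pow (Nat.succ_ne_zero j) p)
  have hθp : p ≤ Char.degree (θ : P → ℂ) := (hdvd θ).resolve_left fun h =>
    hθ1 (by rw [hdeg, h, Nat.cast_one])
  have hle : m θ * Char.degree (θ : P → ℂ) ≤ n := hsum ▸ Finset.single_le_sum
    (f := fun ψ : Cfsg.IrrCharacter P => m ψ * Char.degree (ψ : P → ℂ))
    (fun _ _ => Nat.zero_le _) (Finset.mem_univ θ)
  have hθd : Char.degree (θ : P → ℂ) = p := by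
    obtain ⟨j, -, hj⟩ := (Nat.dvd_prime_pow hp.out).1 (hk ▸ CharTools.degree_dvd_card θ)
    change Char.degree (θ : P → ℂ) = _ at hj
    have h1 : Char.degree (θ : P → ℂ) ≤ n :=
      (Nat.le_mul_of_pos_left _ (Nat.pos_of_ne_zero hθ0)).trans hle
    rcases j with _ | _ | j
    · exact absurd (hθp.trans_eq (hj.trans (pow_zero p))) (not_le.2 hp.out.one_lt)
    · simpa using hj
    · have h2 : p ^ 2 ≤ p ^ (j + 1 + 1) := Nat.pow_le_pow_right hp.out.pos (by omega)
      have h3 : 2 * p ≤ p ^ 2 := by rw [sq]; exact Nat.mul_le_mul_right p hp.out.two_le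
      omega
  have hm1 : m θ = 1 := by
    by_contra h
    have : 2 * p ≤ m θ * Char.degree (θ : P → ℂ) := by
      rw [hθd]; exact Nat.mul_le_mul_right p (by omega)
    omega
  have hlin : ∀ ψ, ψ ≠ θ → m ψ ≠ 0 → Char.degree (ψ : P → ℂ) = 1 := by
    intro ψ hne h0
    refine (hdvd ψ).resolve_right fun h => ?_
    have h1 : ∑ x ∈ ({θ, ψ} : Finset (Cfsg.IrrCharacter P)), m x * Char.degree (x : P → ℂ) ≤ n :=
      hsum ▸ Finset.sum_le_sum_of_subset (Finset.subset_univ _)
    rw [Finset.sum_pair (Ne.symm hne), hm1, hθd, one_mul] at h1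
    have := h.trans (Nat.le_mul_of_pos_left (Char.degree (ψ : P → ℂ)) (Nat.pos_of_ne_zero h0))
    omega
  haveI : Group.IsNilpotent P := hP.isNilpotent
  have hcne : commutator P ≠ ⊥ := by
    intro h
    obtain ⟨x, hx, y, hy, hxy⟩ := hna
    have h1 : ⁅(⟨x, hx⟩ : P), (⟨y, hy⟩ : P)⁆ ∈ commutator P :=
      Subgroup.commutator_mem_commutator (Subgroup.mem_top _) (Subgroup.mem_top _)
    rw [h, Subgroup.mem_bot, commutatorElement_eq_one_iff_mul_comm] at h1
    exact hxy (congrArg Subtype.val h1)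
  have hne := Transfer.inf_center_ne_bot hcne
  obtain ⟨z, hz⟩ : ∃ z : (commutator P ⊓ Subgroup.center P : Subgroup P), orderOf z = p := by
    refine exists_prime_orderOf_dvd_card' p ?_
    obtain ⟨j, hj⟩ := IsPGroup.iff_card.1 (hP.to_subgroup (commutator P ⊓ Subgroup.center P))
    rw [hj]
    refine dvd_pow_self p fun h0 => hne ?_
    rw [h0, pow_zero] at hj
    exact Subgroup.card_eq_one.1 hj
  obtain ⟨⟨z, hzP⟩, hzc, hzz⟩ := z
  have hzord : orderOf z = p := by
    rw [← hz, ← Subgroup.orderOf_coe, ← Subgroup.orderOf_coe]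
  obtain ⟨d, τ, hτ, hτc⟩ := θ.2
  obtain ⟨ω, hω⟩ := Char.exists_scalar_of_commute τ (τ ⟨z, hzP⟩) (fun g => by
    rw [← map_mul, ← map_mul, Subgroup.mem_center_iff.1 hzz g])
  have hd : d = p := by
    rw [← hθd, ← hτc, Char.degree_character, Module.finrank_fin_fun]
  have hθz : ∀ j : ℕ, (θ : P → ℂ) (⟨z, hzP⟩ ^ j) = (p : ℂ) * ω ^ j := by
    intro j
    rw [← hτc, Representation.character, map_pow, hω, smul_pow, one_pow, _root_.map_smul,
      LinearMap.trace_one, Module.finrank_fin_fun, hd, smul_eq_mul, mul_comm]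
  have hres : ∀ j : ℕ, χ (z ^ j) = (p : ℂ) * ω ^ j + (n - p : ℕ) := by
    intro j
    have hcj : (⟨z, hzP⟩ : P) ^ j ∈ commutator P := pow_mem hzc j
    have h1 := congrFun hm (⟨z, hzP⟩ ^ j)
    simp only [Finset.sum_apply, Pi.smul_apply, smul_eq_mul, Subgroup.coe_pow] at h1
    rw [h1, ← Finset.add_sum_erase _ _ (Finset.mem_univ θ), hm1, Nat.cast_one, one_mul, hθz]
    congr 1
    have h2 : ∑ ψ ∈ Finset.univ.erase θ, m ψ * Char.degree (ψ : P → ℂ) = n - p := by
      have h := Finset.add_sum_erase Finset.univ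
        (fun ψ : Cfsg.IrrCharacter P => m ψ * Char.degree (ψ : P → ℂ)) (Finset.mem_univ θ)
      simp only [hm1, hθd, one_mul, hsum] at h
      omega
    rw [← h2, Nat.cast_sum]
    refine Finset.sum_congr rfl fun ψ hψ => ?_
    by_cases h0 : m ψ = 0
    · simp [h0]
    have hψ1 := hlin ψ (Finset.ne_of_mem_erase hψ) h0
    obtain ⟨l, hl⟩ := Char.IsCharacter.exists_linear (Char.IsIrrCharacter.isCharacter ψ.2)
      (by rw [hdeg, hψ1, Nat.cast_one])
    have hker : commutator P ≤ l.ker := Abelianization.commutator_subset_ker l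
    rw [hl, MonoidHom.mem_ker.1 (hker hcj), hψ1, mul_one, Units.val_one, mul_one]
  have hz1 : z ≠ 1 := fun h => by
    rw [h, orderOf_one] at hzord
    exact hp.out.one_lt.ne hzord
  refine ⟨z, ω, by rw [← hzord, pow_orderOf_eq_one], hz1, ?_, ?_,
    hθd ▸ (Nat.le_mul_of_pos_left _ (Nat.pos_of_ne_zero hθ0)).trans hle, hres⟩
  · intro h
    refine hz1 (hfaith z ?_)
    have h1 := hres 1
    have h0 := hres 0
    rw [pow_one, h, one_pow] at h1
    rw [pow_zero, pow_zero] at h0
    rw [h1, h0]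
  · have h1 := hθz p
    have h2 : (⟨z, hzP⟩ : P) ^ p = 1 := Subtype.ext (by
      rw [Subgroup.coe_pow, Subgroup.coe_one, ← hzord, pow_orderOf_eq_one])
    rw [h2, hdeg, hθd] at h1
    exact (mul_left_cancel₀ (Nat.cast_ne_zero.2 hp.out.ne_zero) (h1.symm.trans (mul_one _).symm))

/-- The index of `O_p` is not divisible by `p ^ 2`. -/
theorem not_sq_dvd {p : ℕ} [hp : Fact p.Prime] (h7 : 7 ≤ p) (χ : Cfsg.IrrCharacter G)
    (hfaith : ∀ g : G, (χ : G → ℂ) g = (χ : G → ℂ) 1 → g = 1) {n : ℕ}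
    (hn : (χ : G → ℂ) 1 = n) (hn2 : n < 2 * p) (hnp : n ≠ p) (P : Subgroup G) (hP : IsPGroup p P)
    (hna : ∃ x ∈ P, ∃ y ∈ P, x * y ≠ y * x) :
    ¬ p ^ 2 ∣ (pCore p G).index := by
  letI := Fintype.ofFinite G
  obtain ⟨z, ω, hzp, hz1, hω1, hωp, hpn, hchi⟩ := exists_two_eigen_element
    (Char.IsIrrCharacter.isCharacter χ.2) hfaith hn hn2 P hP hna
  have hχc := Char.IsIrrCharacter.isClassFunction χ.2
  obtain ⟨χ, hχirr⟩ := χ
  obtain ⟨d, ρ, hρ, rfl⟩ := id hχirr
  simp only at hfaith hn hchi hχc ⊢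
  have hinj : Function.Injective ρ := by
    intro a b h
    refine inv_mul_eq_one.mp (hfaith (a⁻¹ * b) ?_)
    simp only [Representation.character]
    rw [map_mul, ← h, ← map_mul, inv_mul_cancel]
  have hquad : ∀ g : G, (ρ (g * z * g⁻¹) - 1) * (ρ (g * z * g⁻¹) - ω • 1) = 0 := by
    intro g
    set x := g * z * g⁻¹
    have hxp : x ^ p = 1 := by rw [conj_pow, hzp, mul_one, mul_inv_cancel]
    obtain ⟨b, μ, hμ, hb⟩ := Char.exists_eigenbasis ρ x
    have hμp : ∀ i, μ i ^ p = 1 := fun i => by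
      obtain ⟨c, hc⟩ := orderOf_dvd_of_pow_eq_one hxp
      rw [hc, pow_mul, hμ, one_pow]
    have hpw : ∀ j : ℕ, ∀ i, ρ (x ^ j) (b i) = μ i ^ j • b i := by
      intro j i
      induction j with
      | zero => simp
      | succ j ih =>
        rw [map_pow] at ih ⊢
        rw [pow_succ', Module.End.mul_apply, ih, _root_.map_smul, hb, smul_smul, pow_succ]
    obtain ⟨hval, -⟩ := two_values hp.out.pos hμp hωp hω1 (a := p) (b := n - p) fun j => by
      rw [← Char.trace_eq_sum_of_eigenbasis (ρ (x ^ j)) b _ (hpw j), ← hchi j, conj_pow]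
      exact hχc (z ^ j) g
    refine b.ext fun i => ?_
    rw [Module.End.mul_apply, LinearMap.zero_apply, LinearMap.sub_apply (ρ x) (ω • 1),
      LinearMap.smul_apply, Module.End.one_apply, hb, ← sub_smul, _root_.map_smul,
      LinearMap.sub_apply, Module.End.one_apply, hb]
    rcases hval i with h | h <;> simp [h, sub_smul]
  set N := Subgroup.normalClosure ({z} : Set G) with hN
  haveI hNn : N.Normal := Subgroup.normalClosure_normal
  have hNgen : N = Subgroup.closure (Group.conjugatesOfSet ({z} : Set G)) := rfl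
  have hconjset : ∀ x ∈ Group.conjugatesOfSet ({z} : Set G), ∃ g, g * z * g⁻¹ = x := by
    intro x hx
    obtain ⟨a, ha, hax⟩ := Group.mem_conjugatesOfSet_iff.1 hx
    rw [Set.mem_singleton_iff] at ha
    subst ha
    exact isConj_iff.1 hax
  have hgencomm : ∀ x ∈ Group.conjugatesOfSet ({z} : Set G),
      ∀ y ∈ Group.conjugatesOfSet ({z} : Set G), x * y = y * x := by
    intro x hx y hy
    obtain ⟨g, rfl⟩ := hconjset x hx
    obtain ⟨g', rfl⟩ := hconjset y hy
    exact commute_of_two_eigen ρ hinj hp.out h7 (by rw [conj_pow, hzp, mul_one, mul_inv_cancel])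
      (by rw [conj_pow, hzp, mul_one, mul_inv_cancel]) hω1 (hquad g) (hquad g')
  have hNcomm : ∀ a b : N, a * b = b * a := fun a b => by
    haveI := Subgroup.isMulCommutative_closure hgencomm
    exact Subtype.ext (congrArg Subtype.val (mul_comm' (M := Subgroup.closure
      (Group.conjugatesOfSet ({z} : Set G))) ⟨a, a.2⟩ ⟨b, b.2⟩))
  have hNexp : ∀ x ∈ N, x ^ p = 1 := by
    intro x hx
    rw [hNgen] at hx
    induction hx using Subgroup.closure_induction with
    | mem x hx =>
      obtain ⟨g, rfl⟩ := hconjset x hx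
      rw [conj_pow, hzp, mul_one, mul_inv_cancel]
    | one => exact one_pow p
    | mul x y hx hy ihx ihy =>
      have hxy : Commute x y := congrArg Subtype.val (hNcomm ⟨x, hx⟩ ⟨y, hy⟩)
      rw [hxy.mul_pow, ihx, ihy, one_mul]
    | inv x _ ihx => rw [inv_pow, ihx, inv_one]
  have hzN : z ∈ N := Subgroup.subset_normalClosure rfl
  -- Clifford theory
  obtain ⟨θ, hθ, hθc⟩ := Clifford.exists_constituent_res N hχirr
  obtain ⟨e, he⟩ := Char.IsCharacter.exists_nat_classInner
    (Clifford.isCharacter_res (Char.IsIrrCharacter.isCharacter hχirr) N) hθ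
  have he0 : e ≠ 0 := fun h => hθc (by rw [he, h, Nat.cast_zero])
  set O := Clifford.orbit N θ with hO
  have hres := Clifford.res_eq N hχirr hθ hθc
  rw [he, ← hO] at hres
  have hOirr : ∀ η ∈ O, Cfsg.IsIrrCharacter N η := by
    intro η hη
    obtain ⟨g, rfl⟩ := (Clifford.mem_orbit N).1 hη
    exact isIrrCharacter_conjFun N hθ g
  have hOone : ∀ η ∈ O, η 1 = 1 := fun η hη => PrimTwo.apply_one_of_comm hNcomm (hOirr η hη)
  have hcard : n = e * O.card := by
    have h1 := congrFun hres 1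
    simp only [OneMemClass.coe_one, hn, Pi.smul_apply, Finset.sum_apply, smul_eq_mul] at h1
    rw [Finset.sum_congr rfl hOone, Finset.sum_const, nsmul_eq_mul, mul_one] at h1
    exact_mod_cast h1
  have hOlin : ∀ η ∈ O, ∀ (a : N) (j : ℕ), η (a ^ j) = η a ^ j := by
    intro η hη a j
    obtain ⟨l, hl⟩ := Char.IsCharacter.exists_linear
      (Char.IsIrrCharacter.isCharacter (hOirr η hη)) (hOone η hη)
    rw [hl, hl, map_pow, Units.val_pow_eq_pow_val]
  obtain ⟨-, hmult⟩ := two_values (ι := {η // η ∈ O} × Fin e) hp.out.pos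
    (μ := fun i => (i.1 : N → ℂ) ⟨z, hzN⟩) (fun i => by
      rw [← hOlin _ i.1.2, show (⟨z, hzN⟩ : N) ^ p = 1 from Subtype.ext hzp, hOone _ i.1.2])
    hωp hω1 (a := p) (b := n - p) fun j => by
      rw [← hchi j]
      have h1 := congrFun hres ((⟨z, hzN⟩ : N) ^ j)
      simp only [Subgroup.coe_pow, Pi.smul_apply, Finset.sum_apply, smul_eq_mul] at h1
      rw [h1, Fintype.sum_prod_type, Finset.mul_sum, ← Finset.sum_coe_sort O]
      refine Finset.sum_congr rfl fun η _ => ?_
      simp only [Finset.sum_const, Finset.card_univ, Fintype.card_fin, nsmul_eq_mul]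
      rw [hOlin _ η.2]
  have hedvd : e ∣ p := by
    rw [← hmult]
    rw [show (Finset.univ.filter fun i : {η // η ∈ O} × Fin e => (i.1 : N → ℂ) ⟨z, hzN⟩ = ω) =
      (Finset.univ.filter fun η : {η // η ∈ O} => (η : N → ℂ) ⟨z, hzN⟩ = ω) ×ˢ Finset.univ by
        ext i; simp, Finset.card_product, Finset.card_univ, Fintype.card_fin]
    exact dvd_mul_left _ _
  have he1 : e = 1 := by
    rcases (Nat.dvd_prime hp.out).1 hedvd with h | h
    · exact h
    · exfalso
      rw [h] at hcard
      rcases Nat.lt_or_ge O.card 2 with h2 | h2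
      · interval_cases hc : O.card
        · omega
        · exact hnp (by rw [hcard, mul_one])
      · have := Nat.mul_le_mul_left p h2
        omega
  rw [he1, one_mul] at hcard
  rw [he1] at he
  -- the kernel of the action on the orbit
  have hmove : ∀ (g : G) (η : {η // η ∈ O}), conjFun N (η : N → ℂ) g ∈ O := by
    intro g η
    obtain ⟨x, hx⟩ := (Clifford.mem_orbit N).1 η.2
    rw [← hx, ← conjFun_mul]
    exact (Clifford.mem_orbit N).2 ⟨_, rfl⟩
  let act : G →* Equiv.Perm {η // η ∈ O} :=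
    { toFun := fun g =>
        { toFun := fun η => ⟨conjFun N η.1 g⁻¹, hmove _ η⟩
          invFun := fun η => ⟨conjFun N η.1 g, hmove _ η⟩
          left_inv := fun η => Subtype.ext (by
            show conjFun N (conjFun N η.1 g⁻¹) g = η.1
            rw [← conjFun_mul, inv_mul_cancel, conjFun_one])
          right_inv := fun η => Subtype.ext (by
            show conjFun N (conjFun N η.1 g) g⁻¹ = η.1
            rw [← conjFun_mul, mul_inv_cancel, conjFun_one]) }
      map_one' := Equiv.ext fun η => Subtype.ext (by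
        show conjFun N η.1 1⁻¹ = η.1
        rw [inv_one, conjFun_one])
      map_mul' := fun a b => Equiv.ext fun η => Subtype.ext (by
        show conjFun N η.1 (a * b)⁻¹ = conjFun N (conjFun N η.1 b⁻¹) a⁻¹
        rw [← conjFun_mul, mul_inv_rev]) }
  set D := act.ker with hD
  have hDfix : ∀ t ∈ D, ∀ η ∈ O, conjFun N η t = η := by
    intro t ht η hη
    have h1 := congrArg (fun s : Equiv.Perm {η // η ∈ O} => (s ⟨η, hη⟩).1)
      (MonoidHom.mem_ker.1 (inv_mem ht))
    change conjFun N η t⁻¹⁻¹ = η at h1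
    rwa [inv_inv] at h1
  have hND : N ≤ D := by
    intro x hx
    refine MonoidHom.mem_ker.2 (Equiv.ext fun η => Subtype.ext ?_)
    show conjFun N η.1 x⁻¹ = η.1
    exact mem_inertia.1 (inv_mem (le_inertia N
      (Char.IsIrrCharacter.isClassFunction (hOirr _ η.2)) hx))
  obtain ⟨mD, hmD⟩ := Char.IsCharacter.exists_nat_combination
    (Clifford.isCharacter_res (Char.IsIrrCharacter.isCharacter hχirr) D)
  have hDlin : ∀ ξ : Cfsg.IrrCharacter D, mD ξ ≠ 0 → (ξ : D → ℂ) 1 = 1 := by
    intro ξ hξ0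
    have hresξ : Cfsg.IsCharacter N (fun m : N => (ξ : D → ℂ) ⟨m, hND m.2⟩) :=
      CharTwist.isCharacter_comp (Char.IsIrrCharacter.isCharacter ξ.2) (Subgroup.inclusion hND)
    obtain ⟨η, hη, hηc⟩ := Clifford.exists_constituent hresξ
      (Char.IsIrrCharacter.apply_one_ne_zero ξ.2)
    obtain ⟨c, hc⟩ := Char.IsCharacter.exists_nat_classInner hresξ hη
    have hc0 : c ≠ 0 := fun h => hηc (by rw [hc, h, Nat.cast_zero])
    choose c' hc' using fun ξ' : Cfsg.IrrCharacter D => Char.IsCharacter.exists_nat_classInner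
      (CharTwist.isCharacter_comp (Char.IsIrrCharacter.isCharacter ξ'.2) (Subgroup.inclusion hND)) hη
    have hsum : Cfsg.classInner (fun m : N => ρ.character m) η =
        ((∑ ξ' : Cfsg.IrrCharacter D, mD ξ' * c' ξ' : ℕ) : ℂ) := by
      have h1 : (fun m : N => ρ.character m) = ∑ ξ' : Cfsg.IrrCharacter D,
          (mD ξ' : ℂ) • ((ξ' : D → ℂ) ∘ Subgroup.inclusion hND) := by
        funext m
        have h2 := congrFun hmD ⟨m, hND m.2⟩
        simp only [Finset.sum_apply, Pi.smul_apply, Function.comp_apply] at h2 ⊢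
        exact h2
      rw [h1, Char.classInner_sum_left, Nat.cast_sum]
      refine Finset.sum_congr rfl fun ξ' _ => ?_
      rw [Char.classInner_smul_left, hc', Nat.cast_mul]
    have hcξ : c' ξ = c := by
      exact_mod_cast (hc' ξ).symm.trans hc
    have hge : c ≤ ∑ ξ' : Cfsg.IrrCharacter D, mD ξ' * c' ξ' :=
      le_trans (hcξ ▸ Nat.le_mul_of_pos_left _ (Nat.pos_of_ne_zero hξ0))
        (Finset.single_le_sum (f := fun ξ' : Cfsg.IrrCharacter D => mD ξ' * c' ξ')
          (fun _ _ => Nat.zero_le _) (Finset.mem_univ ξ))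
    have hne : Cfsg.classInner (fun m : N => ρ.character m) η ≠ 0 := by
      rw [hsum]
      exact Nat.cast_ne_zero.2 (by omega)
    have hηO : η ∈ O := (Clifford.mem_orbit N).2
      (Clifford.exists_conjFun_eq N hχirr hθ hη hθc hne)
    have hinner : Cfsg.classInner (fun m : N => ρ.character m) η = 1 := by
      obtain ⟨g, rfl⟩ := (Clifford.mem_orbit N).1 hηO
      rw [Clifford.classInner_res_conjFun N hχc θ g, he, Nat.cast_one]
    rw [hinner] at hsum
    have hsum' : (1 : ℕ) = ∑ ξ' : Cfsg.IrrCharacter D, mD ξ' * c' ξ' := by exact_mod_cast hsum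
    have h1 := congrFun (Clifford.res_eq_smul_of_fixed N D hND hη (fun t ht => hDfix t ht η hηO)
      ξ.2 hηc) 1
    rw [hc, Pi.smul_apply, hOone η hηO, smul_eq_mul, mul_one] at h1
    have hc1 : c = 1 := by omega
    rw [hc1, Nat.cast_one] at h1
    exact h1
  have hDcomm : ∀ a b : D, a * b = b * a := comm_of_linear_constituents hmD
    (fun a ha => Subtype.ext (hfaith _ ha)) hDlin
  -- the Sylow subgroup of the kernel lies in the core
  obtain ⟨S⟩ : Nonempty (Sylow p D) := inferInstance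
  haveI : (S : Subgroup D).Normal := ⟨fun x hx g => by rwa [hDcomm g x, mul_inv_cancel_right]⟩
  haveI := S.characteristic_of_normal inferInstance
  have hSK : (S : Subgroup D).map D.subtype ≤ pCore p G :=
    Solvable.le_pCore inferInstance (S.2.map _)
  have h1 : (Nat.card D).factorization p ≤ (Nat.card (pCore p G)).factorization p := by
    have h2 := Subgroup.card_dvd_of_le hSK
    rw [Subgroup.card_map_of_injective D.subtype_injective, S.card_eq_multiplicity] at h2
    exact (hp.out.pow_dvd_iff_le_factorization Nat.card_pos.ne').1 h2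
  have h2 : D.index.factorization p ≤ 1 := by
    have h3 : D.index ∣ n.factorial := by
      rw [hD, Subgroup.index_ker, hcard]
      refine (Subgroup.card_subgroup_dvd_card _).trans (dvd_of_eq ?_)
      rw [Nat.card_perm, Nat.card_eq_fintype_card, Fintype.card_coe]
    refine ((Nat.factorization_le_iff_dvd Subgroup.index_ne_zero_of_finite
      (Nat.factorial_ne_zero n)).2 h3 p).trans ?_
    rw [Nat.factorization_def _ hp.out, padicValNat_factorial (b := 2)]
    · rw [Finset.sum_Ico_eq_sum_range]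
      simp only [show 2 - 1 = 1 from rfl, Finset.sum_range_one, add_zero, pow_one]
      have : n / p < 2 := Nat.div_lt_of_lt_mul (by omega)
      omega
    · refine Nat.log_lt_of_lt_pow' (by norm_num) ?_
      have h4 : 2 * p ≤ p ^ 2 := by rw [sq]; exact Nat.mul_le_mul_right p hp.out.two_le
      omega
  intro hdvd
  have h5 := (hp.out.pow_dvd_iff_le_factorization Subgroup.index_ne_zero_of_finite).1 hdvd
  have h6 : (Nat.card G).factorization p =
      (Nat.card D).factorization p + D.index.factorization p := by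
    rw [← Subgroup.card_mul_index D, Nat.factorization_mul Nat.card_pos.ne'
      Subgroup.index_ne_zero_of_finite, Finsupp.add_apply]
  have h7 : (Nat.card G).factorization p =
      (Nat.card (pCore p G)).factorization p + (pCore p G).index.factorization p := by
    rw [← Subgroup.card_mul_index (pCore p G), Nat.factorization_mul Nat.card_pos.ne'
      Subgroup.index_ne_zero_of_finite, Finsupp.add_apply]
  omega

end CfsgLib.TwoEigen
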